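import Mathlib

/-!
# Natural multiplicative operations on characters come from group homomorphisms (helper2)

Pure algebra: over a field `k`, a family of maps `Hom(G, B) → Hom(H, B)` (`B` a `k`-algebra), natural
in `B` and multiplicative, is composition with a unique homomorphism `H → G` (the group-like
elements of `k[G]` are the elements of `G`).  Also the splitting of a short exact sequence of
abelian groups whose cokernel embeds in a finite free group.
-/

set_option backward.isDefEq.respectTransparency.types false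
set_option autoImplicit false
set_option synthInstance.maxHeartbeats 400000
set_option maxHeartbeats 4000000
set_option linter.style.haveILetI false
set_option linter.unusedSectionVars false
set_option linter.unusedVariables false
set_option linter.unusedSimpArgs false
set_option linter.unnecessarySimpa false

open TensorProduct

namespace Groth.Agent.Helper2.DSHom
universe u

section GroupLike
variable (k : Type u) [Field k] (G : Type) [CommGroup G]

/-- The character `g ↦ g ⊗ 1`. -/
noncomputable def inlChr : G →* MonoidAlgebra k G ⊗[k] MonoidAlgebra k G :=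
  ((Algebra.TensorProduct.includeLeft :
      MonoidAlgebra k G →ₐ[k] MonoidAlgebra k G ⊗[k] MonoidAlgebra k G) :
    MonoidAlgebra k G →* MonoidAlgebra k G ⊗[k] MonoidAlgebra k G).comp (MonoidAlgebra.of k G)

/-- The character `g ↦ 1 ⊗ g`. -/
noncomputable def inrChr : G →* MonoidAlgebra k G ⊗[k] MonoidAlgebra k G :=
  ((Algebra.TensorProduct.includeRight :
      MonoidAlgebra k G →ₐ[k] MonoidAlgebra k G ⊗[k] MonoidAlgebra k G) :
    MonoidAlgebra k G →* MonoidAlgebra k G ⊗[k] MonoidAlgebra k G).comp (MonoidAlgebra.of k G)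

theorem comulAlgHom_eq_lift :
    Bialgebra.comulAlgHom k (MonoidAlgebra k G) =
      MonoidAlgebra.lift k (MonoidAlgebra k G ⊗[k] MonoidAlgebra k G) G
        (inlChr k G * inrChr k G) := by
  apply (MonoidAlgebra.lift k (MonoidAlgebra k G ⊗[k] MonoidAlgebra k G) G).symm.injective
  rw [Equiv.symm_apply_apply]
  ext g
  rw [MonoidAlgebra.lift_symm_apply]
  change Coalgebra.comul (MonoidAlgebra.of k G g) =
    (MonoidAlgebra.of k G g ⊗ₜ[k] 1) * (1 ⊗ₜ[k] MonoidAlgebra.of k G g)
  rw [Algebra.TensorProduct.tmul_mul_tmul, mul_one, one_mul]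
  exact (MonoidAlgebra.isGroupLikeElem_of (R := k) (A := k) g).comul_eq_tmul_self

theorem counitAlgHom_eq_lift :
    Bialgebra.counitAlgHom k (MonoidAlgebra k G) = MonoidAlgebra.lift k k G 1 := by
  apply (MonoidAlgebra.lift k k G).symm.injective
  rw [Equiv.symm_apply_apply]
  ext g
  rw [MonoidAlgebra.lift_symm_apply]
  exact (MonoidAlgebra.isGroupLikeElem_of (R := k) (A := k) g).counit_eq_one

variable {k G} {H : Type} [CommGroup H]

/-- A natural multiplicative operation on characters is composition with a homomorphism. -/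
theorem exists_hom_of_mul_natural
    (v : ∀ (B : Type u) [CommRing B] [Algebra k B], (G →* B) → (H →* B))
    (hnat : ∀ (B C : Type u) [CommRing B] [CommRing C] [Algebra k B] [Algebra k C]
      (φ : B →ₐ[k] C) (χ : G →* B), v C ((φ : B →* C).comp χ) = (φ : B →* C).comp (v B χ))
    (hmul : ∀ (B : Type u) [CommRing B] [Algebra k B] (χ₁ χ₂ : G →* B),
      v B (χ₁ * χ₂) = v B χ₁ * v B χ₂) :
    ∃ φ : H →* G, ∀ (B : Type u) [CommRing B] [Algebra k B] (χ : G →* B),
      v B χ = χ.comp φ := by
  classical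
  have key : ∀ (B : Type u) [CommRing B] [Algebra k B] (χ : G →* B) (h : H),
      v B χ h = MonoidAlgebra.lift k B G χ (v (MonoidAlgebra k G) (MonoidAlgebra.of k G) h) := by
    intro B _ _ χ h
    have e : ((MonoidAlgebra.lift k B G χ : MonoidAlgebra k G →ₐ[k] B) :
        MonoidAlgebra k G →* B).comp (MonoidAlgebra.of k G) = χ := by
      ext g
      exact MonoidAlgebra.lift_of χ g
    have h1 := hnat (MonoidAlgebra k G) B (MonoidAlgebra.lift k B G χ) (MonoidAlgebra.of k G)
    rw [e] at h1
    rw [h1]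
    rfl
  have hone : ∀ (B : Type u) [CommRing B] [Algebra k B] (h : H), v B 1 h = 1 := by
    intro B _ _ h
    have h1 := hmul B 1 1
    rw [one_mul] at h1
    have h2 : v B 1 h = v B 1 h * v B 1 h := congrArg (fun f : H →* B => f h) h1
    have h3 : v B 1 h * v B 1 h⁻¹ = 1 := by rw [← map_mul, mul_inv_cancel, map_one]
    have h4 : v B 1 h * v B 1 h⁻¹ = v B 1 h * v B 1 h * v B 1 h⁻¹ := by rw [← h2]
    rw [mul_assoc, h3, mul_one] at h4
    exact h4.symm
  have hgl : ∀ h : H,
      IsGroupLikeElem k (v (MonoidAlgebra k G) (MonoidAlgebra.of k G) h) := by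
    intro h
    refine ⟨?_, ?_⟩
    · have h1 := key k 1 h
      rw [hone, ← counitAlgHom_eq_lift] at h1
      exact h1.symm
    · have h1 := key (MonoidAlgebra k G ⊗[k] MonoidAlgebra k G) (inlChr k G * inrChr k G) h
      rw [hmul, ← comulAlgHom_eq_lift] at h1
      have h2 := hnat _ _ (Algebra.TensorProduct.includeLeft :
        MonoidAlgebra k G →ₐ[k] MonoidAlgebra k G ⊗[k] MonoidAlgebra k G) (MonoidAlgebra.of k G)
      have h3 := hnat _ _ (Algebra.TensorProduct.includeRight :
        MonoidAlgebra k G →ₐ[k] MonoidAlgebra k G ⊗[k] MonoidAlgebra k G) (MonoidAlgebra.of k G)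
      change v _ (inlChr k G) = _ at h2
      change v _ (inrChr k G) = _ at h3
      rw [h2, h3] at h1
      refine Eq.trans (b := Bialgebra.comulAlgHom k (MonoidAlgebra k G)
        (v (MonoidAlgebra k G) (MonoidAlgebra.of k G) h)) rfl ?_
      rw [← h1]
      change (v (MonoidAlgebra k G) (MonoidAlgebra.of k G) h ⊗ₜ[k] 1) *
        (1 ⊗ₜ[k] v (MonoidAlgebra k G) (MonoidAlgebra.of k G) h) = _
      rw [Algebra.TensorProduct.tmul_mul_tmul, mul_one, one_mul]
  have hex : ∀ h : H, ∃ g : G,
      MonoidAlgebra.of k G g = v (MonoidAlgebra k G) (MonoidAlgebra.of k G) h := fun h =>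
    MonoidAlgebra.isGroupLikeElem_iff_mem_range_of.1 (hgl h)
  choose φ₀ hφ₀ using hex
  have hinj : Function.Injective (MonoidAlgebra.of k G) := MonoidAlgebra.of_injective
  refine ⟨{ toFun := φ₀, map_one' := ?_, map_mul' := ?_ }, ?_⟩
  · apply hinj
    rw [hφ₀, map_one, map_one]
  · intro a b
    apply hinj
    rw [hφ₀, map_mul, map_mul, hφ₀, hφ₀]
  · intro B _ _ χ
    ext h
    rw [key B χ h, ← hφ₀ h, MonoidAlgebra.lift_of]
    rfl

end GroupLike

section Split

/-- A short exact sequence `0 → B → A → C` with `C` finite free has a retraction `A → B`. -/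
theorem exists_retraction_of_exact {A B : Type*} [AddCommGroup A] [AddCommGroup B] {n : ℕ}
    (φ : B →+ A) (ψ : A →+ (Fin n → ℤ)) (hφ : Function.Injective φ)
    (hψφ : ∀ b, ψ (φ b) = 0) (hker : ∀ a, ψ a = 0 → ∃ b, φ b = a) :
    ∃ r : A →+ B, ∀ b, r (φ b) = b := by
  obtain ⟨m, ⟨bN⟩⟩ := Submodule.nonempty_basis_of_pid (Pi.basisFun ℤ (Fin n))
    (LinearMap.range ψ.toIntLinearMap)
  haveI : Module.Free ℤ ↥(LinearMap.range ψ.toIntLinearMap) := Module.Free.of_basis bN
  obtain ⟨σ, hσ⟩ := Module.projective_lifting_property ψ.toIntLinearMap.rangeRestrict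
    LinearMap.id (LinearMap.surjective_rangeRestrict _)
  have hσ' : ∀ y : ↥(LinearMap.range ψ.toIntLinearMap), ψ (σ y) = (y : Fin n → ℤ) := by
    intro y
    have := congrArg (fun f : ↥(LinearMap.range ψ.toIntLinearMap) →ₗ[ℤ]
      ↥(LinearMap.range ψ.toIntLinearMap) => ((f y : ↥(LinearMap.range ψ.toIntLinearMap)) :
        Fin n → ℤ)) hσ
    exact this
  have hp : ∀ a : A, a - σ (ψ.toIntLinearMap.rangeRestrict a) ∈ LinearMap.range φ.toIntLinearMap := by
    intro a
    obtain ⟨b, hb⟩ := hker (a - σ (ψ.toIntLinearMap.rangeRestrict a)) (by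
      rw [map_sub, hσ']
      exact sub_self _)
    exact ⟨b, hb⟩
  let p : A →ₗ[ℤ] A := LinearMap.id - σ.comp ψ.toIntLinearMap.rangeRestrict
  let e : B ≃ₗ[ℤ] ↥(LinearMap.range φ.toIntLinearMap) := LinearEquiv.ofInjective φ.toIntLinearMap hφ
  refine ⟨(e.symm.toLinearMap.comp (p.codRestrict (LinearMap.range φ.toIntLinearMap) hp)).toAddMonoidHom,
    fun b => ?_⟩
  change e.symm (p.codRestrict (LinearMap.range φ.toIntLinearMap) hp (φ b)) = b
  rw [LinearEquiv.symm_apply_eq]
  apply Subtype.ext
  change φ b - σ (ψ.toIntLinearMap.rangeRestrict (φ b)) = φ b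
  have h0 : ψ.toIntLinearMap.rangeRestrict (φ b) = 0 := by
    apply Subtype.ext
    exact hψφ b
  rw [h0, map_zero, sub_zero]

end Split

end Groth.Agent.Helper2.DSHom
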