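import Mathlib
import Groth.Prelude.Def_GmPts
import Groth.Prelude.Def_Red2
import Groth.Agent.Lib.Helper6.DS.HomGa
import Groth.Agent.Lib.Helper6.DS.Univ
import Groth.Agent.Lib.Helper2.DS.GroupLikeNat

/-!
# Homomorphisms of diagonalisable groups over a field (helper2)

Over a field `k`, every homomorphism `D(M) ⟶ D(N)` is `D(φ)` for a unique `φ : N → M`.
Uses the character machinery of helper6 (`Lib/Helper6/DS`).
-/

set_option backward.isDefEq.respectTransparency.types false
set_option autoImplicit false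
set_option synthInstance.maxHeartbeats 400000
set_option maxHeartbeats 4000000
set_option linter.style.haveILetI false
set_option linter.unusedSectionVars false
set_option linter.unusedVariables false
set_option linter.unusedSimpArgs false
set_option linter.unnecessarySimpa false

open CategoryTheory CategoryTheory.Limits MonoidalCategory CartesianMonoidalCategory MonObj
  AlgebraicGeometry Opposite

namespace Groth.Agent.Helper2.DSHom

universe u

noncomputable section

attribute [-instance] ULift.module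

open Groth.Agent.Lib.Helper6.DS Groth.Agent.Lib.Helper6.GaGm Groth.Agent.Lib.Helper6

variable {M N P : Type} [AddCommGroup M] [AddCommGroup N] [AddCommGroup P]

section General
variable {S : Scheme.{u}}

theorem chr_DSmap_self (φ : M →+ N) (m : Multiplicative M) :
    chr (Red.DSmap S φ) m = chr (𝟙 (Red.DS S N)) (AddMonoidHom.toMultiplicative φ m) := by
  have h := chr_DSmap φ (𝟙 (Red.DS S N)) m
  rwa [Category.id_comp] at h

theorem DSmap_comp (φ : M →+ N) (ψ : N →+ P) :
    Red.DSmap S (ψ.comp φ) = Red.DSmap S ψ ≫ Red.DSmap S φ := by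
  apply chr_injective
  refine MonoidHom.ext fun m => ?_
  rw [chr_DSmap, chr_DSmap_self, chr_DSmap_self]
  rfl

theorem DSmap_id : Red.DSmap S (AddMonoidHom.id M) = 𝟙 (Red.DS S M) := by
  apply chr_injective
  refine MonoidHom.ext fun m => ?_
  rw [chr_DSmap_self]
  rfl

theorem DSmap_zero : Red.DSmap S (0 : M →+ N) = 1 := by
  apply chr_injective
  refine MonoidHom.ext fun m => ?_
  rw [chr_DSmap_self, chr_one]
  change chr (𝟙 (Red.DS S N)) 1 = 1
  rw [map_one]

theorem DSmap_injective (R : Type u) [CommRing R] [Nontrivial R] {φ φ' : M →+ N}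
    (h : Red.DSmap (Spec (CommRingCat.of R)) φ = Red.DSmap (Spec (CommRingCat.of R)) φ') :
    φ = φ' := by
  ext m
  have h1 := chr_DSmap φ (univPt R N) (Multiplicative.ofAdd m)
  have h2 := chr_DSmap φ' (univPt R N) (Multiplicative.ofAdd m)
  rw [h, h2, chr_univPt] at h1
  have h3 := univChr_injective R N h1
  exact (Multiplicative.ofAdd.injective h3).symm

end General

section Test
variable {U : Scheme.{u}} (R : Type u) [CommRing R] (t : Spec (CommRingCat.of R) ⟶ U)

/-- The operation on characters attached to a morphism `f : D_U(M) → D_U(N)`. -/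
def vChr (f : Red.DS U M ⟶ Red.DS U N) (B : Type u) [CommRing B] [Algebra R B]
    (χ : Multiplicative M →* B) : Multiplicative N →* B :=
  ((Scheme.ΓSpecIso (CommRingCat.of B)).hom.hom : Γ(Spec (CommRingCat.of B), ⊤) →* B).comp
    (chr (ptOfChr (T := tObj R t B) (liftChr χ) ≫ f))

variable {R}

theorem vChr_mul (f : Red.DS U M ⟶ Red.DS U N) [IsMonHom f] (B : Type u) [CommRing B]
    [Algebra R B] (χ₁ χ₂ : Multiplicative M →* B) :
    vChr R t f B (χ₁ * χ₂) = vChr R t f B χ₁ * vChr R t f B χ₂ := by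
  have h1 : ptOfChr (S := U) (T := tObj R t B) (liftChr (χ₁ * χ₂)) =
      ptOfChr (liftChr χ₁) * ptOfChr (liftChr χ₂) := by
    apply chr_injective
    rw [chr_mul, chr_ptOfChr, chr_ptOfChr, chr_ptOfChr, liftChr_mul]
  have h2 := MonObj.mul_comp (ptOfChr (S := U) (T := tObj R t B) (liftChr χ₁))
    (ptOfChr (liftChr χ₂)) f
  refine MonoidHom.ext fun n => ?_
  unfold vChr
  rw [h1, h2, chr_mul]
  simp only [MonoidHom.comp_apply, MonoidHom.mul_apply, map_mul]

theorem vChr_nat (f : Red.DS U M ⟶ Red.DS U N) {B C : Type u} [CommRing B] [CommRing C]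
    [Algebra R B] [Algebra R C] (φ : B →ₐ[R] C) (χ : Multiplicative M →* B) :
    vChr R t f C ((φ : B →* C).comp χ) = (φ : B →* C).comp (vChr R t f B χ) := by
  have h1 : ptOfChr (S := U) (T := tObj R t C) (liftChr ((φ : B →* C).comp χ)) =
      tMap t φ ≫ ptOfChr (liftChr χ) := by
    apply chr_injective
    refine MonoidHom.ext fun m => ?_
    rw [chr_comp, chr_ptOfChr, chr_ptOfChr]
    exact (GaGm.specMap_appTop_ΓSpecIso_inv (CommRingCat.ofHom φ.toRingHom) (χ m)).symm
  refine MonoidHom.ext fun n => ?_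
  unfold vChr
  rw [h1, Category.assoc]
  have h3 := chr_comp (tMap t φ) (ptOfChr (T := tObj R t B) (liftChr χ) ≫ f) n
  have h2 := Scheme.ΓSpecIso_naturality (CommRingCat.ofHom φ.toRingHom)
  have h4 := congrArg (fun ψ : Γ(Spec (CommRingCat.of B), ⊤) ⟶ CommRingCat.of C =>
    ψ.hom (chr (ptOfChr (T := tObj R t B) (liftChr χ) ≫ f) n)) h2
  exact (congrArg (Scheme.ΓSpecIso (CommRingCat.of C)).hom.hom h3).trans h4

theorem comp_eq_of_vChr (f : Red.DS U M ⟶ Red.DS U N)
    (φ' : Multiplicative N →* Multiplicative M)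
    (hφ' : ∀ (B : Type u) [CommRing B] [Algebra R B] (χ : Multiplicative M →* B),
      vChr R t f B χ = χ.comp φ')
    (B : Type u) [CommRing B] [Algebra R B] (y : tObj R t B ⟶ Red.DS U M) :
    y ≫ f = y ≫ Red.DSmap U (AddMonoidHom.toMultiplicative.symm φ') := by
  apply chr_injective
  refine MonoidHom.ext fun n => ?_
  rw [chr_DSmap, Equiv.apply_symm_apply]
  have key := hφ' B (((Scheme.ΓSpecIso (CommRingCat.of B)).hom.hom :
    Γ(Spec (CommRingCat.of B), ⊤) →* B).comp (chr y))
  have h3 : ∀ a : Γ(Spec (CommRingCat.of B), ⊤),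
      (Scheme.ΓSpecIso (CommRingCat.of B)).inv.hom
        ((Scheme.ΓSpecIso (CommRingCat.of B)).hom.hom a) = a := fun a =>
    congrArg (fun ψ : Γ(Spec (CommRingCat.of B), ⊤) ⟶ Γ(Spec (CommRingCat.of B), ⊤) =>
      ψ.hom a) (Scheme.ΓSpecIso (CommRingCat.of B)).hom_inv_id
  have h1 : liftChr (((Scheme.ΓSpecIso (CommRingCat.of B)).hom.hom :
      Γ(Spec (CommRingCat.of B), ⊤) →* B).comp (chr y)) = chr y := by
    refine MonoidHom.ext fun m => ?_
    exact h3 (chr y m)
  unfold vChr at key
  rw [h1, ptOfChr_chr] at key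
  have h2 := congrArg (fun ψ : Multiplicative N →* B =>
    (Scheme.ΓSpecIso (CommRingCat.of B)).inv.hom (ψ n)) key
  exact (h3 _).symm.trans (h2.trans (h3 _))

end Test

/-- Over a field, every homomorphism of diagonalisable groups comes from a homomorphism of
character groups. -/
theorem exists_DSmap_eq {k : Type u} [Field k]
    (f : Red.DS (Spec (CommRingCat.of k)) M ⟶ Red.DS (Spec (CommRingCat.of k)) N) [IsMonHom f] :
    ∃ φ : N →+ M, f = Red.DSmap (Spec (CommRingCat.of k)) φ := by
  obtain ⟨φ', hφ'⟩ := exists_hom_of_mul_natural (k := k) (G := Multiplicative M)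
    (H := Multiplicative N)
    (fun B _ _ χ => vChr k (𝟙 (Spec (CommRingCat.of k))) f B χ)
    (fun B C _ _ _ _ φ χ => vChr_nat (𝟙 (Spec (CommRingCat.of k))) f φ χ)
    (fun B _ _ χ₁ χ₂ => vChr_mul (𝟙 (Spec (CommRingCat.of k))) f B χ₁ χ₂)
  refine ⟨AddMonoidHom.toMultiplicative.symm φ', ?_⟩
  apply Over.OverMorphism.ext
  refine Scheme.Cover.hom_ext
    (Red.DS (Spec (CommRingCat.of k)) M).left.affineOpenCover.openCover _ _ fun i => ?_
  let 𝒰 := (Red.DS (Spec (CommRingCat.of k)) M).left.affineOpenCover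
  let R : Type u := 𝒰.X i
  let g : Spec (𝒰.X i) ⟶ Spec (CommRingCat.of k) :=
    𝒰.f i ≫ (Red.DS (Spec (CommRingCat.of k)) M).hom
  letI : Algebra k R := (Spec.preimage g).hom.toAlgebra
  have hg : Spec.map (CommRingCat.ofHom (algebraMap k R)) = g := Spec.map_preimage g
  let y : tObj k (𝟙 (Spec (CommRingCat.of k))) R ⟶ Red.DS (Spec (CommRingCat.of k)) M :=
    Over.homMk (𝒰.f i) (by
      change 𝒰.f i ≫ (Red.DS (Spec (CommRingCat.of k)) M).hom =
        Spec.map (CommRingCat.ofHom (algebraMap k R)) ≫ 𝟙 _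
      rw [hg, Category.comp_id])
  have h := comp_eq_of_vChr (𝟙 (Spec (CommRingCat.of k))) f φ' hφ' R y
  exact congrArg (fun z => z.left) h

end

end Groth.Agent.Helper2.DSHom
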