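import Mathlib
import Groth.Prelude.Def_AlgGrp
import Groth.Prelude.Def_Red
import Groth.Prelude.Def_Red2
import Groth.Agent.Lib.Helper2.DS.HomClass

/-!
# Exact sequences of split tori over a field split (helper2)
-/

set_option backward.isDefEq.respectTransparency.types false
set_option autoImplicit false
set_option synthInstance.maxHeartbeats 400000
set_option maxHeartbeats 4000000
set_option linter.style.haveILetI false
set_option linter.unusedSectionVars false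
set_option linter.unusedVariables false
set_option linter.unusedSimpArgs false
set_option linter.unnecessarySimpa false

open CategoryTheory CategoryTheory.Limits MonoidalCategory CartesianMonoidalCategory MonObj
  AlgebraicGeometry Opposite

namespace Groth.Agent.Helper2.DSHom

universe u

noncomputable section

attribute [-instance] ULift.module

open Groth.Agent.Lib.Helper6.DS Groth.Agent.Lib.Helper6.GaGm Groth.Agent.Lib.Helper6

/-- The case of standard diagonalisable groups: a homomorphism `π' : D(A) → D(B)` which is an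
epimorphism and whose kernel is `D(ℤⁿ)` has a homomorphic section. -/
theorem exists_section_of_std {k : Type u} [Field k] {A B : Type} [AddCommGroup A]
    [AddCommGroup B] {n : ℕ}
    (i' : Red.DS (Spec (CommRingCat.of k)) (Fin n → ℤ) ⟶ Red.DS (Spec (CommRingCat.of k)) A)
    [IsMonHom i']
    (π' : Red.DS (Spec (CommRingCat.of k)) A ⟶ Red.DS (Spec (CommRingCat.of k)) B)
    [IsMonHom π'] [Epi π'] (hcomp : i' ≫ π' = 1)
    (hker : ∀ (T : Over (Spec (CommRingCat.of k))) (x : T ⟶ Red.DS (Spec (CommRingCat.of k)) A),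
      x ≫ π' = 1 → ∃ z : T ⟶ Red.DS (Spec (CommRingCat.of k)) (Fin n → ℤ), z ≫ i' = x) :
    ∃ s' : Red.DS (Spec (CommRingCat.of k)) B ⟶ Red.DS (Spec (CommRingCat.of k)) A,
      IsMonHom s' ∧ s' ≫ π' = 𝟙 _ := by
  obtain ⟨φ, hφ⟩ := exists_DSmap_eq π'
  obtain ⟨ψ, hψ⟩ := exists_DSmap_eq i'
  have hφinj : Function.Injective φ := by
    intro b b' hbb
    have h1 : φ.comp (zmultiplesHom B b) = φ.comp (zmultiplesHom B b') := by
      ext
      simp [hbb]
    have h2 : π' ≫ Red.DSmap (Spec (CommRingCat.of k)) (zmultiplesHom B b) =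
        π' ≫ Red.DSmap (Spec (CommRingCat.of k)) (zmultiplesHom B b') := by
      rw [hφ, ← DSmap_comp, ← DSmap_comp, h1]
    have h3 := DSmap_injective k ((cancel_epi _).1 h2)
    have h4 := congrArg (fun g : ℤ →+ B => g 1) h3
    simpa using h4
  have hψφ : ψ.comp φ = 0 := by
    apply DSmap_injective k
    rw [DSmap_comp, ← hφ, ← hψ, hcomp, DSmap_zero]
  have hkerψ : ∀ a : A, ψ a = 0 → ∃ b, φ b = a := by
    intro a ha
    obtain ⟨x, hxdef⟩ : ∃ x : univObj k (A ⧸ φ.range) ⟶ Red.DS (Spec (CommRingCat.of k)) A,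
        x = univPt k (A ⧸ φ.range) ≫
          Red.DSmap (Spec (CommRingCat.of k)) (QuotientAddGroup.mk' φ.range) := ⟨_, rfl⟩
    have hchrx : ∀ a' : A, chr x (Multiplicative.ofAdd a') =
        univChr k (A ⧸ φ.range) (Multiplicative.ofAdd (QuotientAddGroup.mk' φ.range a')) := by
      intro a'
      rw [hxdef, chr_DSmap, chr_univPt]
      rfl
    have hx : x ≫ π' = 1 := by
      apply chr_injective
      refine MonoidHom.ext fun b => ?_
      rw [hφ, chr_DSmap, chr_one]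
      change chr x (Multiplicative.ofAdd (φ b.toAdd)) = 1
      rw [hchrx]
      have h0 : QuotientAddGroup.mk' φ.range (φ b.toAdd) = 0 :=
        (QuotientAddGroup.eq_zero_iff _).2 ⟨_, rfl⟩
      rw [h0]
      exact map_one _
    obtain ⟨z, hz⟩ := hker _ x hx
    have h1 : chr x (Multiplicative.ofAdd a) = 1 := by
      rw [← hz, hψ, chr_DSmap]
      change chr z (Multiplicative.ofAdd (ψ a)) = 1
      rw [ha]
      exact map_one _
    have h3 : univChr k (A ⧸ φ.range) (Multiplicative.ofAdd (QuotientAddGroup.mk' φ.range a)) =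
        univChr k (A ⧸ φ.range) 1 := by
      rw [← hchrx, h1, map_one]
    have h4 := univChr_injective k _ h3
    have h5 : QuotientAddGroup.mk' φ.range a = 0 := Multiplicative.ofAdd.injective h4
    obtain ⟨b, hb⟩ := (QuotientAddGroup.eq_zero_iff a).1 h5
    exact ⟨b, hb⟩
  obtain ⟨r, hr⟩ := exists_retraction_of_exact φ ψ hφinj
    (fun b => DFunLike.congr_fun hψφ b) hkerψ
  refine ⟨Red.DSmap (Spec (CommRingCat.of k)) r, inferInstance, ?_⟩
  have hrφ : r.comp φ = AddMonoidHom.id B := AddMonoidHom.ext hr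
  rw [hφ, ← DSmap_comp, hrφ, DSmap_id]

/-- Over a field, an exact sequence of split tori splits. -/
theorem exists_section_of_splitTori (k : Type u) [Field k]
    (K G Q : Over (Spec (CommRingCat.of k))) [GrpObj K] [GrpObj G] [GrpObj Q] (nK nG nQ : ℕ)
    (hK : Red.IsSplitTorusWith (Fin nK → ℤ) K) (hG : Red.IsSplitTorusWith (Fin nG → ℤ) G)
    (hQ : Red.IsSplitTorusWith (Fin nQ → ℤ) Q)
    (i : K ⟶ G) [IsMonHom i]
    (π : G ⟶ Q) [IsMonHom π] [Flat π.left] [Surjective π.left] (hker : AlgGrp.IsKernel i π) :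
    ∃ s : Q ⟶ G, IsMonHom s ∧ s ≫ π = 𝟙 Q := by
  obtain ⟨eK⟩ := hK
  obtain ⟨eG⟩ := hG
  obtain ⟨eQ⟩ := hQ
  have hK1 : eK.hom.hom.hom ≫ eK.inv.hom.hom = 𝟙 K := by
    rw [← Grp.comp_hom_hom, eK.hom_inv_id]; rfl
  have hG1 : eG.hom.hom.hom ≫ eG.inv.hom.hom = 𝟙 G := by
    rw [← Grp.comp_hom_hom, eG.hom_inv_id]; rfl
  have hG2 : eG.inv.hom.hom ≫ eG.hom.hom.hom = 𝟙 _ := by
    rw [← Grp.comp_hom_hom, eG.inv_hom_id]; rfl
  have hQ1 : eQ.hom.hom.hom ≫ eQ.inv.hom.hom = 𝟙 Q := by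
    rw [← Grp.comp_hom_hom, eQ.hom_inv_id]; rfl
  have hQ2 : eQ.inv.hom.hom ≫ eQ.hom.hom.hom = 𝟙 _ := by
    rw [← Grp.comp_hom_hom, eQ.inv_hom_id]; rfl
  haveI hmK' : IsMonHom (eK.inv.hom.hom :
      Red.DS (Spec (CommRingCat.of k)) (Fin nK → ℤ) ⟶ K) := eK.inv.hom.isMonHom_hom
  haveI hmG : IsMonHom (eG.hom.hom.hom :
      G ⟶ Red.DS (Spec (CommRingCat.of k)) (Fin nG → ℤ)) := eG.hom.hom.isMonHom_hom
  haveI hmG' : IsMonHom (eG.inv.hom.hom :
      Red.DS (Spec (CommRingCat.of k)) (Fin nG → ℤ) ⟶ G) := eG.inv.hom.isMonHom_hom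
  haveI hmQ : IsMonHom (eQ.hom.hom.hom :
      Q ⟶ Red.DS (Spec (CommRingCat.of k)) (Fin nQ → ℤ)) := eQ.hom.hom.isMonHom_hom
  haveI hmQ' : IsMonHom (eQ.inv.hom.hom :
      Red.DS (Spec (CommRingCat.of k)) (Fin nQ → ℤ) ⟶ Q) := eQ.inv.hom.isMonHom_hom
  haveI : Epi π := by
    haveI : Epi π.left := Flat.epi_of_flat_of_surjective π.left
    exact (Over.forget _).epi_of_epi_map ‹_›
  haveI : IsIso eG.inv.hom.hom := ⟨⟨eG.hom.hom.hom, hG2, hG1⟩⟩
  haveI : IsIso eQ.hom.hom.hom := ⟨⟨eQ.inv.hom.hom, hQ1, hQ2⟩⟩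
  obtain ⟨π', hπ'⟩ : ∃ π' : Red.DS (Spec (CommRingCat.of k)) (Fin nG → ℤ) ⟶
      Red.DS (Spec (CommRingCat.of k)) (Fin nQ → ℤ),
      π' = eG.inv.hom.hom ≫ π ≫ eQ.hom.hom.hom := ⟨_, rfl⟩
  obtain ⟨i', hi'⟩ : ∃ i' : Red.DS (Spec (CommRingCat.of k)) (Fin nK → ℤ) ⟶
      Red.DS (Spec (CommRingCat.of k)) (Fin nG → ℤ),
      i' = eK.inv.hom.hom ≫ i ≫ eG.hom.hom.hom := ⟨_, rfl⟩
  haveI : IsMonHom π' := by rw [hπ']; infer_instance
  haveI : IsMonHom i' := by rw [hi']; infer_instance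
  haveI : Epi π' := by rw [hπ']; infer_instance
  have hiπ : i ≫ π = 1 := by rw [hker.w]; rfl
  have hcomp : i' ≫ π' = 1 := by
    have e1 : eG.hom.hom.hom ≫ eG.inv.hom.hom ≫ π ≫ eQ.hom.hom.hom = π ≫ eQ.hom.hom.hom := by
      rw [← Category.assoc, hG1, Category.id_comp]
    have e2 : i ≫ π ≫ eQ.hom.hom.hom = 1 := by
      rw [← Category.assoc, hiπ]
      exact MonObj.one_comp (X := K)
        (eQ.hom.hom.hom : Q ⟶ Red.DS (Spec (CommRingCat.of k)) (Fin nQ → ℤ))
    rw [hi', hπ', Category.assoc, Category.assoc, e1, e2, MonObj.comp_one]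
  have hker' : ∀ (T : Over (Spec (CommRingCat.of k)))
      (x : T ⟶ Red.DS (Spec (CommRingCat.of k)) (Fin nG → ℤ)),
      x ≫ π' = 1 → ∃ z : T ⟶ Red.DS (Spec (CommRingCat.of k)) (Fin nK → ℤ), z ≫ i' = x := by
    intro T x hx
    have h2 : (x ≫ π') ≫ eQ.inv.hom.hom = (x ≫ eG.inv.hom.hom) ≫ π := by
      rw [hπ']
      simp only [Category.assoc]
      rw [hQ1, Category.comp_id]
    have h1 : (x ≫ eG.inv.hom.hom) ≫ π = toUnit T ≫ η[Q] := by
      rw [← h2, hx]
      exact MonObj.one_comp (X := T)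
        (eQ.inv.hom.hom : Red.DS (Spec (CommRingCat.of k)) (Fin nQ → ℤ) ⟶ Q)
    obtain ⟨w, hw⟩ : ∃ w : T ⟶ K, w ≫ i = x ≫ eG.inv.hom.hom :=
      ⟨hker.lift _ _ h1, hker.lift_fst _ _ h1⟩
    refine ⟨w ≫ eK.hom.hom.hom, ?_⟩
    rw [hi', Category.assoc, ← Category.assoc eK.hom.hom.hom, hK1, Category.id_comp,
      ← Category.assoc, hw, Category.assoc, hG2, Category.comp_id]
  obtain ⟨s', hs'mon, hs'⟩ := exists_section_of_std i' π' hcomp hker'
  haveI := hs'mon
  refine ⟨eQ.hom.hom.hom ≫ s' ≫ eG.inv.hom.hom, inferInstance, ?_⟩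
  have e1 : eG.inv.hom.hom ≫ π = π' ≫ eQ.inv.hom.hom := by
    rw [hπ']
    simp only [Category.assoc]
    rw [hQ1, Category.comp_id]
  rw [Category.assoc, Category.assoc, e1, ← Category.assoc s', hs', Category.id_comp, hQ1]

end

end Groth.Agent.Helper2.DSHom
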